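import Cfsg.Agent.Lib.Aschbacher.OrthBasic
import Cfsg.Agent.Lib.MaxCl.OrthFrame
import Cfsg.Agent.Lib.Aschbacher.SpExplicit.WreathNonContain
import Cfsg.Agent.Lib.Aschbacher.SpExplicit.TensorCommon

/-!
`Ω` in odd characteristic lies in no stabiliser of a decomposition, in no normaliser of a field of degree at
least three and in no stabiliser of a tensor square: a Siegel element fixes a subspace of codimension two.
-/

set_option autoImplicit false

namespace Cfsg.Agent.Aschbacher.OrthExplicit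

open Matrix
open scoped MatrixGroups
open Cfsg.Agent.MaxCl
open Cfsg.Agent.MaxCl.Orth
open Module (finrank)

variable {ι : Type} [Fintype ι] [DecidableEq ι] {F : Type*} [Field F]

/-- `g` fixes a subspace of codimension at most two pointwise. -/
def FixesCodimTwo (g : GL ι F) : Prop :=
  ∃ E : Submodule F (ι → F), Fintype.card ι ≤ finrank F E + 2 ∧
    ∀ v ∈ E, (g : Matrix ι ι F) *ᵥ v = v

/-- A space of dimension at least three meets the fixed space. -/
theorem exists_preimage {V : Type*} [AddCommGroup V] [Module F V] [Module.Finite F V]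
    {E : Submodule F (ι → F)} (hE : Fintype.card ι ≤ finrank F E + 2) (L : V →ₗ[F] (ι → F))
    (hV : 3 ≤ finrank F V) : ∃ y : V, y ≠ 0 ∧ L y ∈ E := by
  obtain ⟨y, hy, hy0⟩ := (Submodule.ne_bot_iff (LinearMap.ker (E.mkQ ∘ₗ L))).1 fun h => by
    have h1 := LinearMap.finrank_range_add_finrank_ker (E.mkQ ∘ₗ L)
    have h2 := Submodule.finrank_le (LinearMap.range (E.mkQ ∘ₗ L))
    have h3 := E.finrank_quotient_add_finrank
    rw [Module.finrank_fintype_fun_eq_card] at h3
    rw [h, finrank_bot] at h1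
    omega
  exact ⟨y, hy0, (Submodule.Quotient.mk_eq_zero E).1 hy⟩

/-- An element fixing a large subspace fixes every member of a decomposition into members of dimension at
least three. -/
theorem mem_stabilizer_of_fixesCodimTwo {t m : ℕ} {D : Fin t → Submodule F (ι → F)}
    (hD : Geo.IsMDecomposition m D) (hm : 3 ≤ m) {g : GL ι F} (hg : g ∈ Geo.decompositionStabilizer D)
    (hfix : FixesCodimTwo g) (i : Fin t) : g ∈ Geo.subspaceStabilizer (D i) := by
  obtain ⟨π, hπ⟩ := hg
  obtain ⟨E, hE, hEfix⟩ := hfix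
  have hi : π i = i := by
    by_contra hne
    obtain ⟨y, hy0, hy⟩ := exists_preimage hE (D i).subtype (by rw [hD.finrank_eq]; exact hm)
    have h1 : (y : ι → F) ∈ D (π i) := by
      rw [← hπ i]
      exact ⟨y, y.2, (Matrix.toLin'_apply _ _).trans (hEfix _ hy)⟩
    exact hy0 (Subtype.ext (Submodule.disjoint_def.1 (hD.indep.pairwiseDisjoint (fun h => hne h.symm)) _ y.2 h1))
  refine Aschbacher.mem_subspaceStabilizer fun w hw => ?_
  have h1 : (g : Matrix ι ι F) *ᵥ w ∈ (D i).map (Matrix.toLin' (g : Matrix ι ι F)) :=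
    ⟨w, hw, Matrix.toLin'_apply _ _⟩
  rwa [hπ i, hi] at h1

/-- An element normalising a field of degree at least three and fixing a large subspace is trivial. -/
theorem eq_one_of_subalgebraNormalizer (h5 : 5 ≤ Fintype.card ι) {r : ℕ} (hr : 3 ≤ r)
    {K : Subalgebra F (Matrix ι ι F)} (hK : Geo.IsFieldSubalgebra r K) {g : GL ι F}
    (hg : g ∈ Geo.subalgebraNormalizer K) (hfix : FixesCodimTwo g) : g = 1 := by
  classical
  obtain ⟨E, hE, hEfix⟩ := hfix
  have hker : ∀ k ∈ K, k ≠ 0 → ∀ v, k *ᵥ v = 0 → v = 0 := by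
    intro k hk hk0 v hv
    obtain ⟨y, hy, hky⟩ := hK.inv k hk hk0
    rw [← Matrix.one_mulVec v, ← hky, hK.comm k hk y hy, ← Matrix.mulVec_mulVec, hv, Matrix.mulVec_zero]
  -- the elements of the field commute with `g`
  have hcomm : ∀ k ∈ K, ∀ v, (g : Matrix ι ι F) *ᵥ (k *ᵥ v) = k *ᵥ ((g : Matrix ι ι F) *ᵥ v) := by
    intro k hk
    set k' := (g : Matrix ι ι F) * k * ((g⁻¹ : GL ι F) : Matrix ι ι F) with hk'
    have hk'K : k' ∈ K := (hg k).1 hk
    have hgk : ∀ v, (g : Matrix ι ι F) *ᵥ (k *ᵥ v) = k' *ᵥ ((g : Matrix ι ι F) *ᵥ v) := fun v => by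
      simp only [hk', ← Matrix.mulVec_mulVec, inv_mulVec]
    suffices k' = k by intro v; rw [hgk v, this]
    by_contra hne
    obtain ⟨y, hy0, hy⟩ := exists_preimage hE (Matrix.toLin' k ∘ₗ E.subtype) (by omega)
    rw [LinearMap.comp_apply, Submodule.subtype_apply, Matrix.toLin'_apply] at hy
    have h1 := hgk (y : ι → F)
    rw [hEfix _ y.2, hEfix _ hy] at h1
    exact hy0 (Subtype.ext (hker (k' - k) (K.sub_mem hk'K hk) (sub_ne_zero.2 hne) _
      (by rw [Matrix.sub_mulVec, ← h1, sub_self])))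
  -- the range of `g - 1` is small
  set L : (ι → F) →ₗ[F] (ι → F) := Matrix.toLin' ((g : Matrix ι ι F) - 1) with hL
  have hrange : finrank F (LinearMap.range L) ≤ 2 := by
    have h1 := LinearMap.finrank_range_add_finrank_ker L
    have h2 : E ≤ LinearMap.ker L := fun v hv => by
      rw [LinearMap.mem_ker, hL, Matrix.toLin'_apply, Matrix.sub_mulVec, Matrix.one_mulVec, hEfix v hv, sub_self]
    have h3 := Submodule.finrank_mono h2
    rw [Module.finrank_fintype_fun_eq_card] at h1
    omega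
  refine Units.ext (sub_eq_zero.1 (Matrix.toLin'.injective ?_))
  show L = Matrix.toLin' 0
  rw [map_zero]
  refine LinearMap.ext fun v => ?_
  by_contra hv
  let φ : K →ₗ[F] LinearMap.range L :=
    { toFun := fun k => ⟨(k : Matrix ι ι F) *ᵥ L v, ⟨(k : Matrix ι ι F) *ᵥ v, by
        simp only [hL, Matrix.toLin'_apply, Matrix.sub_mulVec, Matrix.one_mulVec, Matrix.mulVec_sub,
          hcomm _ k.2]⟩⟩
      map_add' := fun a b => Subtype.ext (by simp [Matrix.add_mulVec])
      map_smul' := fun c a => Subtype.ext (by simp [Matrix.smul_mulVec]) }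
  have hφ : Function.Injective φ := by
    rw [injective_iff_map_eq_zero]
    intro k hk
    by_contra hk0
    exact hv (hker _ k.2 (fun h => hk0 (Subtype.ext h)) _ (congrArg Subtype.val hk))
  have h1 := LinearMap.finrank_le_finrank_of_injective hφ
  rw [show finrank F K = r from hK.finrank_eq] at h1
  omega

/-- The vectors of the shape `x ⊗ y`, linear in each argument. -/
theorem eq_one_of_pureSquare {m : ℕ} (hm : 3 ≤ m) (e : ι ≃ (Fin 2 → Fin m)) (P : GL ι F)
    {g : GL ι F} {p : GL (Fin 2 → Fin m) F} (hp : p ∈ (pureGL (m := m) (t := 2) (F := F)).range)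
    (hgp : g = coordGL e P p) (hfix : FixesCodimTwo g) : g = 1 := by
  classical
  haveI : NeZero m := ⟨by omega⟩
  have hcard : Fintype.card ι = m ^ 2 := by rw [Fintype.card_congr e]; simp
  obtain ⟨p, rfl⟩ := hp
  obtain ⟨E, hE, hEfix⟩ := hfix
  let pv : (Fin m → F) → (Fin m → F) → ι → F :=
    fun x y => (P : Matrix ι ι F) *ᵥ ((fun z : Fin 2 → Fin m => x (z 0) * y (z 1)) ∘ e)
  let B : (Fin m → F) →ₗ[F] (Fin m → F) →ₗ[F] (ι → F) := LinearMap.mk₂ F pv
    (fun x x' y => by simp only [pv, ← Matrix.mulVec_add]; congr 1; funext i; simp [add_mul])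
    (fun r x y => by simp only [pv, ← Matrix.mulVec_smul]; congr 1; funext i; simp [mul_assoc])
    (fun x y y' => by simp only [pv, ← Matrix.mulVec_add]; congr 1; funext i; simp [mul_add])
    (fun r x y => by simp only [pv, ← Matrix.mulVec_smul]; congr 1; funext i; simp [mul_left_comm])
  have hcancel : ∀ {x x' y y' : Fin m → F}, pv x y = pv x' y' → ∀ a b, x a * y b = x' a * y' b := by
    intro x x' y y' h a b
    have h1 := congrFun (mulVec_injective P h) (e.symm ![a, b])
    simpa using h1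
  have hmem : ∀ {a x : Fin m → F} {b y : Fin m → F}, b ≠ 0 → (∀ p q, a p * b q = x p * y q) →
      a ∈ Submodule.span F {x} := by
    intro a x b y hb h
    obtain ⟨q, hq⟩ := Function.ne_iff.1 hb
    refine Submodule.mem_span_singleton.2 ⟨y q / b q, funext fun p => ?_⟩
    have hq' : b q ≠ 0 := hq
    simp only [Pi.smul_apply, smul_eq_mul]
    field_simp
    linear_combination -h p q
  have hact : ∀ x y : Fin m → F, (g : Matrix ι ι F) *ᵥ pv x y =
      pv ((p 0 : Matrix (Fin m) (Fin m) F) *ᵥ x) ((p 1 : Matrix (Fin m) (Fin m) F) *ᵥ y) := by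
    intro x y
    rw [hgp, coordGL_val, coordEquiv_apply, ← Matrix.mulVec_mulVec, ← Matrix.mulVec_mulVec]
    simp only [pv]
    rw [inv_mulVec, Matrix.submatrix_mulVec_equiv, Function.comp_assoc, Equiv.self_comp_symm, Function.comp_id]
    congr 1
    congr 1
    funext z
    show ∑ w : Fin 2 → Fin m, pureMat _ z w * _ = (∑ w : Fin m, _) * (∑ w : Fin m, _)
    rw [Fintype.sum_mul_sum, ← (finTwoArrowEquiv (Fin m)).symm.sum_comp, Fintype.sum_prod_type]
    refine Finset.sum_congr rfl fun a _ => Finset.sum_congr rfl fun b _ => ?_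
    rw [pureMat_apply, Fin.prod_univ_two]
    simp [finTwoArrowEquiv]
    ring
  have hz : ∀ {x y : Fin m → F}, pv x y ∈ E →
      pv ((p 0 : Matrix (Fin m) (Fin m) F) *ᵥ x) ((p 1 : Matrix (Fin m) (Fin m) F) *ᵥ y) = pv x y :=
    fun h => (hact _ _).symm.trans (hEfix _ h)
  have hp0 : ∀ (i : Fin 2) {x : Fin m → F}, x ≠ 0 → (p i : Matrix (Fin m) (Fin m) F) *ᵥ x ≠ 0 :=
    fun i {x} hx => mt (Aschbacher.mulVec_eq_zero_iff (p i)).1 hx
  obtain ⟨c, hc⟩ := SpExplicit.scalar_of_eigen (x := (p 0 : Matrix (Fin m) (Fin m) F)) fun x hx => by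
    obtain ⟨y, hy, hyE⟩ := exists_preimage hE (B x) (by simp; omega)
    exact hmem (hp0 1 hy) (hcancel (hz hyE))
  obtain ⟨d, hd⟩ := SpExplicit.scalar_of_eigen (x := (p 1 : Matrix (Fin m) (Fin m) F)) fun y hy => by
    obtain ⟨x, hx, hxE⟩ := exists_preimage hE (B.flip y) (by simp; omega)
    exact hmem (hp0 0 hx) fun b a => by
      rw [mul_comm]; exact (hcancel (hz hxE) a b).trans (mul_comm _ _)
  have hgs : (g : Matrix ι ι F) = (c * d) • 1 := by
    rw [hgp, coordGL_val]
    have hfun : (fun i => (p i : Matrix (Fin m) (Fin m) F)) =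
        fun i => ![c, d] i • (1 : Matrix (Fin m) (Fin m) F) := by
      funext i; fin_cases i <;> simp [hc, hd]
    show coordEquiv e P (pureMat fun i => (p i : Matrix (Fin m) (Fin m) F)) = _
    rw [hfun, pureMat_smul, show (fun _ : Fin 2 => (1 : Matrix (Fin m) (Fin m) F)) = 1 from rfl, map_one,
      map_smul, map_one, Fin.prod_univ_two]
    rfl
  obtain ⟨v, hv, hv0⟩ := (Submodule.ne_bot_iff E).1 fun h => by
    rw [h, finrank_bot, hcard] at hE
    nlinarith
  have h1 := hEfix v hv
  rw [hgs, Matrix.smul_mulVec, Matrix.one_mulVec] at h1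
  exact Units.ext (by rw [hgs, smul_left_injective F hv0 (h1.trans (one_smul F v).symm), one_smul, Units.val_one])

/-- The square of a member of the wreath subgroup of a tensor square is a pure tensor. -/
theorem sq_mem_pure {m : ℕ} (e : ι ≃ (Fin 2 → Fin m)) (P : GL ι F)
    {h : GL ι F} (hh : h ∈ Geo.tensorWreathSubgroup m 2 e P) :
    ∃ p ∈ (pureGL (m := m) (t := 2) (F := F)).range, h * h = coordGL e P p := by
  obtain ⟨_, ⟨s, hs, rfl⟩, rfl⟩ := hh
  obtain ⟨p, hp, σ, rfl⟩ := SpExplicit.exists_pure_perm hs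
  have hσ : σ * σ = 1 := by clear * - σ; revert σ; decide
  have he : p * permGL σ * (p * permGL σ) = p * (permGL σ * p * (permGL σ)⁻¹) * (permGL σ * permGL σ) := by
    group
  rw [← permGL_mul, hσ, SpExplicit.permGL_one, mul_one] at he
  refine ⟨_, Subgroup.mul_mem _ hp (SpExplicit.permGL_conj_pure σ hp), ?_⟩
  rw [← he, map_mul, map_mul]
  simp only [coordGL_eq, MulEquiv.coe_toMonoidHom, MulAut.conj_apply, map_mul]

variable [Fintype F] {Q : QuadraticForm F (ι → F)} (hQ : (QuadraticMap.polarBilin Q).Nondegenerate)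
  (h5 : 5 ≤ Fintype.card ι)
include hQ h5

set_option quotPrecheck false in
local notation "B" => QuadraticMap.polar (⇑Q)

omit [Fintype F] h5 in
theorem fixesCodimTwo_sg (u w : ι → F) : FixesCodimTwo (sg Q u w) := by
  by_cases h : Q u = 0 ∧ B u w = 0
  · refine ⟨perp Q (Submodule.span F (Set.range ![u, w])), ?_, fun v hv => ?_⟩
    · have := finrank_span_list_le ![u, w]
      rw [finrank_perp hQ]
      omega
    · rw [← act_apply]
      exact act_sg_fix Q h.1 h.2 (hv u (Submodule.subset_span ⟨0, rfl⟩)) (hv w (Submodule.subset_span ⟨1, rfl⟩))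
  · refine ⟨⊤, by rw [finrank_top, Module.finrank_fintype_fun_eq_card]; omega, fun v _ => ?_⟩
    rw [sg_of_not Q h, Units.val_one, Matrix.one_mulVec]

/-- Some Siegel element is non-trivial. -/
theorem exists_sg_ne_one : ∃ u w : ι → F, sg Q u w ≠ 1 := by
  obtain ⟨u, -, hu0, hu⟩ := exists_singular Q (D := (⊤ : Submodule F (ι → F))) (by
    rw [finrank_top, Module.finrank_pi]; omega)
  obtain ⟨w, hw, hQw⟩ := exists_nonsingular hQ (D := perp Q (F ∙ u)) (by
    rw [finrank_perp hQ, finrank_span_singleton hu0]; omega)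
  have huw : B u w = 0 := hw u (Submodule.mem_span_singleton_self u)
  obtain ⟨z, hz⟩ := exists_B_ne_zero hQ hu0
  refine ⟨u, w, fun h1 => ?_⟩
  have h2 := act_sg Q hu huw z
  rw [h1, act_apply, Units.val_one, Matrix.one_mulVec] at h2
  obtain ⟨c, hc⟩ : ∃ c : F, w = c • u := ⟨(B u z)⁻¹ * (B w z + Q w * B u z), by
    have h3 : B u z • w = (B w z + Q w * B u z) • u := by
      linear_combination (norm := module) -(1 : F) • h2
    rw [mul_smul, ← h3, smul_smul, inv_mul_cancel₀ hz, one_smul]⟩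
  exact hQw (by rw [hc, Q_smul, hu, mul_zero])

/-- `Ω` stabilises no decomposition into members of dimension at least three. -/
theorem omega_not_le_decomposition (h2 : (2 : F) ≠ 0) {t m : ℕ} {D : Fin t → Submodule F (ι → F)}
    (hD : Geo.IsMDecomposition m D) (hm : 3 ≤ m) : ¬ Geo.omegaGL (⇑Q) ≤ Geo.decompositionStabilizer D := by
  intro hle
  have ht := hD.two_le
  set i : Fin t := ⟨0, by omega⟩
  refine omega_not_le_subspaceStabilizer hQ h5 h2 (W := D i) (fun h => ?_) (fun h => ?_) ?_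
  · have := hD.finrank_eq i
    rw [h, finrank_bot] at this
    omega
  · have h1 := hD.finrank_eq i
    have hcard := card_eq_of_isMDecomposition hD
    rw [h, finrank_top, Module.finrank_fintype_fun_eq_card] at h1
    have : 2 * m ≤ t * m := Nat.mul_le_mul_right m ht
    omega
  · rw [omega_eq_sgGroup hQ h5, sgGroup, Subgroup.closure_le]
    rintro _ ⟨⟨u, w⟩, rfl⟩
    exact mem_stabilizer_of_fixesCodimTwo hD hm (hle (sg_mem_omega hQ h5 u w)) (fixesCodimTwo_sg hQ u w) i

/-- `Ω` normalises no field of degree at least three. -/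
theorem omega_not_le_subalgebraNormalizer {r : ℕ} (hr : 3 ≤ r) {K : Subalgebra F (Matrix ι ι F)}
    (hK : Geo.IsFieldSubalgebra r K) : ¬ Geo.omegaGL (⇑Q) ≤ Geo.subalgebraNormalizer K := by
  intro hle
  obtain ⟨u, w, hne⟩ := exists_sg_ne_one hQ h5
  exact hne (eq_one_of_subalgebraNormalizer h5 hr hK (hle (sg_mem_omega hQ h5 u w)) (fixesCodimTwo_sg hQ u w))

/-- `Ω` stabilises no tensor square. -/
theorem omega_not_le_tensorSquare (h2 : (2 : F) ≠ 0) {m : ℕ} (hm : 3 ≤ m) (e : ι ≃ (Fin 2 → Fin m))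
    (P : GL ι F) : ¬ Geo.omegaGL (⇑Q) ≤ Geo.tensorWreathSubgroup m 2 e P := by
  intro hle
  obtain ⟨u, w, hne⟩ := exists_sg_ne_one hQ h5
  have hcond : Q u = 0 ∧ B u w = 0 := by
    by_contra h
    exact hne (sg_of_not Q h)
  obtain ⟨p, hp, hhh⟩ := sq_mem_pure e P (hle (sg_mem_omega hQ h5 u ((2⁻¹ : F) • w)))
  have hsq : sg Q u ((2⁻¹ : F) • w) * sg Q u ((2⁻¹ : F) • w) = sg Q u w := by
    have h0 : B u ((2⁻¹ : F) • w) = 0 := by rw [B_smul_right Q, hcond.2, mul_zero]
    rw [sg_add Q hcond.1 h0 h0, ← add_smul, show (2⁻¹ : F) + 2⁻¹ = 1 by field_simp; norm_num, one_smul]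
  rw [hsq] at hhh
  exact hne (eq_one_of_pureSquare hm e P hp hhh (fixesCodimTwo_sg hQ u w))

/-- `Ω` stabilises no orthogonal decomposition into lines. -/
theorem omega_not_le_lines (h2 : (2 : F) ≠ 0) {t : ℕ} {D : Fin t → Submodule F (ι → F)}
    (hD : Geo.IsMDecomposition 1 D) : ¬ Geo.omegaGL (⇑Q) ≤ Geo.decompositionStabilizer D := by
  classical
  intro hle
  have hcard : Fintype.card ι = t := by rw [card_eq_of_isMDecomposition hD, mul_one]
  have hne : ∀ i, ∃ v ∈ D i, v ≠ 0 := fun i => (Submodule.ne_bot_iff (D i)).1 fun h => by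
    have := hD.finrank_eq i
    rw [h, finrank_bot] at this
    omega
  choose v hv hv0 using hne
  let e : Fin t ≃ ι := (Fintype.equivFinOfCardEq hcard).symm
  have hli : LinearIndependent F fun i : ι => v (e.symm i) :=
    (hD.indep.linearIndependent D hv hv0).comp e.symm e.symm.injective
  let b : Module.Basis ι F (ι → F) := basisOfLinearIndependentOfCardEqFinrank' _ hli (by simp)
  have hb : ∀ i, b i = v (e.symm i) := fun i => by simp [b]
  refine omega_not_le_frame hQ h5 h2 b fun g hg i => ?_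
  obtain ⟨π, hπ⟩ := hle hg
  refine ⟨e (π (e.symm i)), ?_⟩
  have h1 : (g : Matrix ι ι F) *ᵥ v (e.symm i) ∈ D (π (e.symm i)) := by
    rw [← hπ]; exact ⟨_, hv _, Matrix.toLin'_apply _ _⟩
  obtain ⟨c, hc⟩ := (finrank_eq_one_iff_of_nonzero' (⟨v (π (e.symm i)), hv _⟩ : D (π (e.symm i)))
    (fun hv' => hv0 _ (congrArg Subtype.val hv'))).1 (hD.finrank_eq _) ⟨_, h1⟩
  refine ⟨c, ?_⟩
  rw [hb, hb, Equiv.symm_apply_apply]
  exact (congrArg Subtype.val hc).symm

end Cfsg.Agent.Aschbacher.OrthExplicit
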