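import Cfsg.Agent.Lib.Aschbacher.OrthExplicit.Three
import Cfsg.Agent.Lib.MaxCl.OrthParabolic

/-!
The maximal subgroups of the orthogonal groups in dimension nine.
-/

set_option autoImplicit false

namespace Cfsg.Agent.Aschbacher.OrthExplicit

open Matrix
open scoped MatrixGroups
open Cfsg.Agent.MaxCl
open Cfsg.Agent.MaxCl.Orth
open Module (finrank)

theorem omega9_cases {F : Type*} [Field F] [Fintype F] (hodd : Odd (Fintype.card F)) (H : Subgroup (Matrix.GeneralLinearGroup (Unit ⊕ (Fin 4 ⊕ Fin 4)) F)) (hH : Cfsg.Geo.IsMaximalIn (Cfsg.Geo.omegaGL (Cfsg.quadFormOdd 4 F)) H)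
    (hout : (∃ M : Subgroup (GL (Unit ⊕ (Fin 4 ⊕ Fin 4)) F), Geo.InOrthogonalOddClass 4 F M ∧ H ≤ M) ∨
      Geo.InOrthogonalResidualClass H) :
    (∃ W : Submodule F (Unit ⊕ (Fin 4 ⊕ Fin 4) → F), W ≠ ⊥ ∧ Cfsg.Geo.IsTotallySingularQuad (Cfsg.quadFormOdd 4 F) W ∧ H = Cfsg.Geo.subspaceStabilizer W ⊓ Cfsg.Geo.omegaGL (Cfsg.quadFormOdd 4 F)) ∨
    (∃ W : Submodule F (Unit ⊕ (Fin 4 ⊕ Fin 4) → F), W ≠ ⊥ ∧ Even (Module.finrank F W) ∧ Cfsg.Geo.IsNondegenerateOn (QuadraticMap.polar (Cfsg.quadFormOdd 4 F)) W ∧ ¬ (Fintype.card F = 3 ∧ Module.finrank F W = 2 ∧ Cfsg.Geo.IsPlusTypeOn (Cfsg.quadFormOdd 4 F) W) ∧ H = Cfsg.Geo.subspaceStabilizer W ⊓ Cfsg.Geo.omegaGL (Cfsg.quadFormOdd 4 F)) ∨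
    ((Fintype.card F).Prime ∧ ∃ D : Fin 9 → Submodule F (Unit ⊕ (Fin 4 ⊕ Fin 4) → F), Cfsg.Geo.IsOrthogonalMDecomposition (Cfsg.quadFormOdd 4 F) 1 D ∧ H = Cfsg.Geo.decompositionStabilizer D ⊓ Cfsg.Geo.omegaGL (Cfsg.quadFormOdd 4 F)) ∨
    (5 ≤ Fintype.card F ∧ ∃ D : Fin 3 → Submodule F (Unit ⊕ (Fin 4 ⊕ Fin 4) → F), Cfsg.Geo.IsOrthogonalMDecomposition (Cfsg.quadFormOdd 4 F) 3 D ∧ H = Cfsg.Geo.decompositionStabilizer D ⊓ Cfsg.Geo.omegaGL (Cfsg.quadFormOdd 4 F)) ∨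
    (∃ K : Subalgebra F (Matrix (Unit ⊕ (Fin 4 ⊕ Fin 4)) (Unit ⊕ (Fin 4 ⊕ Fin 4)) F), Cfsg.Geo.IsFieldSubalgebra 3 K ∧ Cfsg.Geo.IsSelfAdjointFor (QuadraticMap.polar (Cfsg.quadFormOdd 4 F)) K ∧ H = Cfsg.Geo.subalgebraNormalizer K ⊓ Cfsg.Geo.omegaGL (Cfsg.quadFormOdd 4 F)) ∨
    (∃ (F₀ : Subfield F) (r : ℕ) (P : Matrix.GeneralLinearGroup (Unit ⊕ (Fin 4 ⊕ Fin 4)) F), r.Prime ∧ Fintype.card F = Nat.card F₀ ^ r ∧ Cfsg.Geo.IsQuadFormRationalStructure (Cfsg.quadFormOdd 4 F) F₀ P ∧ H = Cfsg.Geo.subfieldSubgroup F₀ P ⊓ Cfsg.Geo.omegaGL (Cfsg.quadFormOdd 4 F)) ∨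
    (5 ≤ Fintype.card F ∧ ∃ (e : (Unit ⊕ (Fin 4 ⊕ Fin 4)) ≃ (Fin 2 → Fin 3)) (P : Matrix.GeneralLinearGroup (Unit ⊕ (Fin 4 ⊕ Fin 4)) F) (f₁ : (Fin 3 → F) → (Fin 3 → F) → F), Cfsg.Geo.IsSymmetricForm f₁ ∧ Cfsg.Geo.IsTensorPowerFormStructure id (QuadraticMap.polar (Cfsg.quadFormOdd 4 F)) f₁ e P ∧ H = Cfsg.Geo.tensorWreathSubgroup 3 2 e P ⊓ Cfsg.Geo.omegaGL (Cfsg.quadFormOdd 4 F)) ∨
    Cfsg.Geo.InOrthogonalResidualClass H := by
  classical
  obtain ⟨Q, hQf, hQ⟩ := Cfsg.Agent.MaxCl.Orth.exists_form_odd hodd 4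
  rw [← hQf] at hH ⊢
  have h9 : Fintype.card (Unit ⊕ (Fin 4 ⊕ Fin 4)) = 9 := by simp
  have h5 : 5 ≤ Fintype.card (Unit ⊕ (Fin 4 ⊕ Fin 4)) := by omega
  have h2 : (2 : F) ≠ 0 := two_ne_zero_of_odd hodd
  have hfive : Fintype.card F ≠ 3 → 5 ≤ Fintype.card F := fun h => by
    obtain ⟨c, hc⟩ := hodd
    have := Fintype.one_lt_card (α := F)
    omega
  have hHI : H ≤ isometryGroup F (⇑Q) := hH.1.le.trans omega_le_iso
  have hmax : ∀ {M : Subgroup (GL (Unit ⊕ (Fin 4 ⊕ Fin 4)) F)}, H ≤ M → ¬ Geo.omegaGL (⇑Q) ≤ M →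
      H = M ⊓ Geo.omegaGL (⇑Q) := fun hle hnot => eq_inf_of_maximal hH hle hnot
  have hfrle : ∀ W : Submodule F (Unit ⊕ (Fin 4 ⊕ Fin 4) → F), finrank F W ≤ 9 := fun W => by
    refine (Submodule.finrank_le W).trans_eq ?_
    rw [Module.finrank_fintype_fun_eq_card, h9]
  have hlines : ∀ {t : ℕ} {D : Fin t → Submodule F (Unit ⊕ (Fin 4 ⊕ Fin 4) → F)},
      Geo.IsOrthogonalMDecomposition (⇑Q) 1 D → H ≤ Geo.decompositionStabilizer D →
      ∃ D : Fin 9 → Submodule F (Unit ⊕ (Fin 4 ⊕ Fin 4) → F), Geo.IsOrthogonalMDecomposition (⇑Q) 1 D ∧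
        H = Geo.decompositionStabilizer D ⊓ Geo.omegaGL (⇑Q) := by
    intro t D hD hle
    obtain rfl : t = 9 := by
      have := card_eq_of_isMDecomposition hD.decomp.decomp
      omega
    exact ⟨D, hD, hmax hle (omega_not_le_lines hQ h5 h2 hD.decomp.decomp)⟩
  have hgood : ∀ {W : Submodule F (Unit ⊕ (Fin 4 ⊕ Fin 4) → F)}, Invariant H W → NonDeg Q W →
      0 < finrank F W → finrank F W < 9 → Even (finrank F W) →
      ¬ (Fintype.card F = 3 ∧ finrank F W = 2 ∧ Geo.IsPlusTypeOn (⇑Q) W) →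
      ∃ W : Submodule F (Unit ⊕ (Fin 4 ⊕ Fin 4) → F), W ≠ ⊥ ∧ Even (finrank F W) ∧
        Geo.IsNondegenerateOn (QuadraticMap.polar (⇑Q)) W ∧
        ¬ (Fintype.card F = 3 ∧ finrank F W = 2 ∧ Geo.IsPlusTypeOn (⇑Q) W) ∧
        H = Geo.subspaceStabilizer W ⊓ Geo.omegaGL (⇑Q) := by
    intro W hW hnd h0 h1 hev hex
    have hbot : W ≠ ⊥ := fun h => by rw [h, finrank_bot] at h0; omega
    have htop : W ≠ ⊤ := fun h => by
      rw [h, finrank_top, Module.finrank_fintype_fun_eq_card, h9] at h1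
      omega
    exact ⟨W, hbot, hev, isNondegenerateOn_of_nonDeg hnd, hex,
      hmax (fun g hg => Aschbacher.mem_subspaceStabilizer (hW g hg))
        (omega_not_le_subspaceStabilizer hQ h5 h2 hbot htop)⟩
  have hperp : ∀ W : Submodule F (Unit ⊕ (Fin 4 ⊕ Fin 4) → F), finrank F (perp Q W) = 9 - finrank F W :=
    fun W => by rw [finrank_perp hQ, h9]
  rcases hout with ⟨M, hM, hHM⟩ | hres
  · rcases hM with ⟨W, h0, hts, rfl⟩ | ⟨W, h0, htop, hnd, rfl⟩ | ⟨t, k, D, hk, hD, rfl⟩ |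
      ⟨t, D, hp, hD, rfl⟩ | ⟨r, K, hr, hne, hK, hsa, rfl⟩ | ⟨n₁, n₂, e, P, f₁, f₂, h3, hlt, -, -, -, rfl⟩ |
      ⟨F₀, r, P, hr, hcard, hrat, rfl⟩ | ⟨k, t, e, P, f₁, hk, ht, hex, hf₁, hstr, rfl⟩
    · rw [← hQf] at hts
      refine Or.inl ⟨W, h0, hts, hmax (hHM.trans inf_le_left) (omega_not_le_subspaceStabilizer hQ h5 h2 h0 ?_)⟩
      rintro rfl
      obtain ⟨i⟩ : Nonempty (Unit ⊕ (Fin 4 ⊕ Fin 4)) := inferInstance
      obtain ⟨y, hy⟩ := exists_B_ne_zero hQ (x := Pi.single i 1) (by simp)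
      exact hy (by simp [QuadraticMap.polar, hts _ Submodule.mem_top])
    · right; left
      rw [← hQf] at hnd
      have hW : Invariant H W := fun g hg v hv => ((hHM hg).1 v).1 hv
      have hWnd := nonDeg_of_isNondegenerateOn hnd
      have hpos : 0 < finrank F W := Nat.pos_of_ne_zero fun h => h0 (Submodule.finrank_eq_zero.1 h)
      have hlt : finrank F W < 9 := by
        refine lt_of_le_of_ne (hfrle W) fun h => htop (Submodule.eq_top_of_finrank_eq ?_)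
        rw [h, Module.finrank_fintype_fun_eq_card, h9]
      obtain ⟨W', hW', hnd', h0', h1', hev'⟩ : ∃ W' : Submodule F (Unit ⊕ (Fin 4 ⊕ Fin 4) → F), Invariant H W' ∧
          NonDeg Q W' ∧ 0 < finrank F W' ∧ finrank F W' < 9 ∧ Even (finrank F W') := by
        by_cases hev : Even (finrank F W)
        · exact ⟨W, hW, hWnd, hpos, hlt, hev⟩
        · refine ⟨perp Q W, invariant_perp hHI hW, nonDeg_perp hQ hWnd, ?_, ?_, ?_⟩ <;> rw [hperp]
          · omega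
          · omega
          · exact Nat.Odd.sub_odd (by decide) (Nat.not_even_iff_odd.1 hev)
      by_cases hpl : Fintype.card F = 3 ∧ finrank F W' = 2 ∧ Geo.IsPlusTypeOn (⇑Q) W'
      · obtain ⟨L, hL, hLnd, hL1⟩ := exists_line_of_plane hpl.1 hHI hW' hnd' hpl.2.1 hpl.2.2
        refine hgood (invariant_perp hHI hL) (nonDeg_perp hQ hLnd) ?_ ?_ ?_ ?_
        all_goals rw [hperp, hL1]
        all_goals first | decide | simp
      · exact hgood hW' hnd' h0' h1' hev' hpl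
    · rw [← hQf] at hD
      have hcard := card_eq_of_isMDecomposition hD.decomp.decomp
      have ht2 := hD.decomp.decomp.two_le
      obtain ⟨rfl, rfl⟩ : t = 3 ∧ k = 3 := by
        have : t ≤ 4 := by
          by_contra h
          have : 5 * 2 ≤ t * k := Nat.mul_le_mul (by omega) hk
          omega
        interval_cases t <;> omega
      by_cases h3 : Fintype.card F = 3
      · obtain ⟨D', hD', hsub⟩ := exists_lines_of_threes h3 hD
        exact Or.inr (Or.inr (Or.inl ⟨h3 ▸ Nat.prime_three, hlines hD'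
          (le_trans (le_inf (hHM.trans inf_le_left) hHI) hsub)⟩))
      · exact Or.inr (Or.inr (Or.inr (Or.inl ⟨hfive h3, D, hD,
          hmax (hHM.trans inf_le_left) (omega_not_le_decomposition hQ h5 h2 hD.decomp.decomp le_rfl)⟩)))
    · rw [← hQf] at hD
      exact Or.inr (Or.inr (Or.inl ⟨hp, hlines hD (hHM.trans inf_le_left)⟩))
    · rw [← hQf] at hsa
      obtain rfl : r = 3 := by
        have hd := dvd_card_of_isFieldSubalgebra hK
        rw [h9] at hd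
        have h2' := hr.two_le
        have hle := Nat.le_of_dvd (by norm_num) hd
        interval_cases r <;> first | rfl | omega | (exfalso; revert hr; decide)
      exact Or.inr (Or.inr (Or.inr (Or.inr (Or.inl ⟨K, hK, hsa,
        hmax (hHM.trans inf_le_left) (omega_not_le_subalgebraNormalizer hQ h5 le_rfl hK)⟩))))
    · exfalso
      have hc : n₁ * n₂ = 9 := by rw [← h9, Fintype.card_congr e]; simp
      have : 3 * 4 ≤ n₁ * n₂ := Nat.mul_le_mul h3 (by omega)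
      omega
    · rw [← hQf] at hrat
      refine Or.inr (Or.inr (Or.inr (Or.inr (Or.inr (Or.inl ⟨F₀, r, P, hr, hcard, hrat,
        hmax (hHM.trans inf_le_left) (omega_not_le_subfieldSubgroup hQ h5 h2 (fun htop => ?_) P)⟩)))))
      have h1 : Nat.card F₀ = Fintype.card F := by
        rw [← Nat.card_eq_fintype_card]
        exact Nat.card_congr (Equiv.subtypeUnivEquiv fun x => by simp [htop])
      rw [h1] at hcard
      exact absurd hcard (ne_of_lt (by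
        conv_lhs => rw [← pow_one (Fintype.card F)]
        exact Nat.pow_lt_pow_right Fintype.one_lt_card hr.one_lt))
    · rw [← hQf] at hstr
      obtain ⟨rfl, rfl⟩ : k = 3 ∧ t = 2 := by
        have hkt : k ^ t = 9 := by rw [← h9, Fintype.card_congr e]; simp
        have ht2 : t < 3 := by
          by_contra h
          have : 3 ^ 3 ≤ k ^ t := le_trans (Nat.pow_le_pow_left hk 3) (Nat.pow_le_pow_right (by omega) (by omega))
          omega
        obtain rfl : t = 2 := by omega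
        exact ⟨by nlinarith, rfl⟩
      exact Or.inr (Or.inr (Or.inr (Or.inr (Or.inr (Or.inr (Or.inl ⟨hfive fun h => hex ⟨h, rfl⟩, e, P, f₁,
        hf₁, hstr, hmax (hHM.trans inf_le_left) (omega_not_le_tensorSquare hQ h5 h2 le_rfl e P)⟩))))))
  · exact Or.inr (Or.inr (Or.inr (Or.inr (Or.inr (Or.inr (Or.inr hres))))))

end Cfsg.Agent.Aschbacher.OrthExplicit
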