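import Cfsg.Agent.Lib.Aschbacher.OrthExplicit.NonContain
import Cfsg.Agent.Lib.Aschbacher.SpExplicit.TensorThree
import Cfsg.Agent.Lib.MaxCl.OrthBlocksMax

/-!
The field of three elements: plus-type planes and decompositions into three-spaces are stabilised inside
stabilisers of larger members.
-/

set_option autoImplicit false

namespace Cfsg.Agent.Aschbacher.OrthExplicit

open Matrix
open scoped MatrixGroups
open Cfsg.Agent.MaxCl
open Cfsg.Agent.MaxCl.Orth
open Module (finrank)

variable {ι : Type} [Fintype ι] [DecidableEq ι] {F : Type*} [Field F] [Fintype F] {Q : QuadraticForm F (ι → F)}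

set_option quotPrecheck false in
local notation "B" => QuadraticMap.polar (⇑Q)

omit [Fintype F] in
theorem invariant_perp {H : Subgroup (GL ι F)} (hHf : H ≤ isometryGroup F (⇑Q)) {W : Submodule F (ι → F)}
    (hW : Invariant H W) : Invariant H (perp Q W) := by
  intro g hg x hx w hw
  have h1 := B_act (hHf hg) (((g⁻¹ : GL ι F) : Matrix ι ι F) *ᵥ w) x
  rw [act_apply, act_apply, mulVec_inv] at h1
  exact h1.trans (hx _ (hW g⁻¹ (H.inv_mem hg) w hw))

/-- A stabiliser of a plus-type plane over three elements fixes a non-singular line. -/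
theorem exists_line_of_plane (h3 : Fintype.card F = 3) {H : Subgroup (GL ι F)}
    (hHf : H ≤ isometryGroup F (⇑Q)) {W : Submodule F (ι → F)} (hW : Invariant H W) (hnd : NonDeg Q W)
    (hW2 : finrank F W = 2) (hplus : Geo.IsPlusTypeOn (⇑Q) W) :
    ∃ L : Submodule F (ι → F), Invariant H L ∧ NonDeg Q L ∧ finrank F L = 1 := by
  have h2 : (2 : F) ≠ 0 := two_ne_zero_of_odd (by rw [h3]; decide)
  obtain ⟨U, hUW, hUs, hUdim⟩ := hplus
  obtain ⟨u, hu, hu0⟩ := U.ne_bot_iff.1 (fun h => by rw [h, finrank_bot, hW2] at hUdim; omega)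
  obtain ⟨z, hz, hzne⟩ : ∃ z ∈ W, B u z ≠ 0 := by
    by_contra hcon
    push Not at hcon
    exact hu0 (hnd u (hUW hu) hcon)
  obtain ⟨v, hv, hQv, huv⟩ := exists_partner Q (hUs u hu) (hUW hu) hz hzne
  have hspan : Submodule.span F (Set.range ![u, v]) = W := by
    refine Submodule.eq_of_le_of_finrank_eq (Submodule.span_le.2 ?_) ?_
    · rintro _ ⟨i, rfl⟩
      fin_cases i
      exacts [hUW hu, hv]
    · rw [finrank_span_eq_card, Fintype.card_fin, hW2]
      rw [LinearIndependent.pair_iff]
      intro s t hst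
      have h3 := congrArg (B u) hst
      have h4 := congrArg (B v) hst
      rw [B_add_right, B_smul_right, B_smul_right, B_self_of_singular Q (hUs u hu), huv, B_zero_right] at h3
      rw [B_add_right, B_smul_right, B_smul_right, B_self_of_singular Q hQv, B_comm Q v u, huv,
        B_zero_right] at h4
      exact ⟨by simpa using h4, by simpa using h3⟩
  have hQuv : Q (u + v) = 1 := by rw [Q_add, hUs u hu, hQv, huv]; ring
  have hL0 : u + v ≠ 0 := fun h => by rw [h, map_zero] at hQuv; exact zero_ne_one hQuv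
  refine ⟨F ∙ (u + v), fun g hg x hx => ?_, fun x hx hx' => ?_, finrank_span_singleton hL0⟩
  · obtain ⟨t, rfl⟩ := Submodule.mem_span_singleton.1 hx
    rw [Matrix.mulVec_smul]
    refine Submodule.smul_mem _ _ ?_
    have h3' := hW g hg (u + v) (W.add_mem (hUW hu) hv)
    rw [← hspan, Orth.mem_span_pair_iff_range] at h3'
    obtain ⟨α, β, hαβ⟩ := h3'
    have h4 := Q_act (hHf hg) (u + v)
    rw [act_apply, ← hαβ, hQuv, Q_add, Q_smul, Q_smul, B_smul_left, B_smul_right, hUs u hu, hQv, huv] at h4
    have h5' : α * β = 1 := by linear_combination h4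
    have h7 : α = β := by
      have h6 := SpExplicit.sq_eq_one h3 (left_ne_zero_of_mul_eq_one h5')
      linear_combination (norm := ring_nf) β * h6 - α * h5'
    rw [← hαβ, h7, ← smul_add]
    exact Submodule.smul_mem _ _ (Submodule.mem_span_singleton_self _)
  · obtain ⟨t, rfl⟩ := Submodule.mem_span_singleton.1 hx
    have h4 := hx' _ (Submodule.mem_span_singleton_self (u + v))
    rw [B_smul_left, B_self, hQuv, mul_one] at h4
    rw [(mul_eq_zero.1 h4).resolve_right h2, zero_smul]

omit [Fintype F] in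
/-- An orthogonal family of vectors of one non-zero value gives a decomposition into lines. -/
theorem lines_of_frame (h2 : (2 : F) ≠ 0) {t : ℕ} (ht : 2 ≤ t) (hcard : Fintype.card ι = t)
    {v : Fin t → ι → F} {c : F} (hc : c ≠ 0) (hQv : ∀ i, Q (v i) = c)
    (horth : ∀ i j, i ≠ j → B (v i) (v j) = 0) :
    Geo.IsOrthogonalMDecomposition (⇑Q) 1 fun i => F ∙ v i := by
  have hv0 : ∀ i, v i ≠ 0 := fun i h => hc (by rw [← hQv i, h, map_zero])
  have hli : LinearIndependent F v := by
    rw [Fintype.linearIndependent_iff]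
    intro s hs i
    have h1 : QuadraticMap.polarBilin Q (v i) (∑ j, s j • v j) = 0 := by rw [hs, map_zero]
    rw [map_sum, Finset.sum_eq_single i (fun j _ hj => by
      rw [map_smul]; show s j • B (v i) (v j) = 0; rw [horth i j (Ne.symm hj), smul_zero])
      (fun hn => absurd (Finset.mem_univ i) hn), map_smul] at h1
    rw [show QuadraticMap.polarBilin Q (v i) (v i) = B (v i) (v i) from rfl, B_self, hQv, smul_eq_mul] at h1
    exact (mul_eq_zero.1 h1).resolve_right (mul_ne_zero h2 hc)
  refine ⟨⟨⟨ht, one_pos, fun i => finrank_span_singleton (hv0 i), hli.iSupIndep_span_singleton, ?_⟩, ?_, ?_⟩, ?_⟩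
  · rw [← Submodule.span_range_eq_iSup]
    exact hli.span_eq_top_of_card_eq_finrank' (by simp [hcard])
  · intro i w hw hw0
    obtain ⟨r, rfl⟩ := Submodule.mem_span_singleton.1 hw
    have hr : r ≠ 0 := fun h => hw0 (by rw [h, zero_smul])
    exact ⟨⟨v i, Submodule.mem_span_singleton_self _, by
        rw [B_smul_right, B_self, hQv]; exact mul_ne_zero hr (mul_ne_zero h2 hc)⟩,
      v i, Submodule.mem_span_singleton_self _, by
        rw [B_smul_left, B_self, hQv]; exact mul_ne_zero hr (mul_ne_zero h2 hc)⟩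
  · intro i j hij a ha b hb
    obtain ⟨r, rfl⟩ := Submodule.mem_span_singleton.1 ha
    obtain ⟨r', rfl⟩ := Submodule.mem_span_singleton.1 hb
    rw [B_smul_left, B_smul_right, horth i j hij, mul_zero, mul_zero]
  · intro i j
    refine ⟨(LinearEquiv.toSpanNonzeroSingleton F (ι → F) (v i) (hv0 i)).symm.trans
      (LinearEquiv.toSpanNonzeroSingleton F (ι → F) (v j) (hv0 j)), fun w => ?_⟩
    obtain ⟨a, rfl⟩ := (LinearEquiv.toSpanNonzeroSingleton F (ι → F) (v i) (hv0 i)).surjective w
    rw [LinearEquiv.trans_apply, LinearEquiv.symm_apply_apply]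
    show Q (a • v j) = Q (a • v i)
    rw [Q_smul, Q_smul, hQv, hQv]

/-- Over three elements an orthogonal decomposition into three-spaces is refined by a canonical frame. -/
theorem exists_lines_of_threes (h3 : Fintype.card F = 3) {t : ℕ} {D : Fin t → Submodule F (ι → F)}
    (hD : Geo.IsOrthogonalMDecomposition (⇑Q) 3 D) :
    ∃ D' : Fin (t * 3) → Submodule F (ι → F), Geo.IsOrthogonalMDecomposition (⇑Q) 1 D' ∧
      Geo.decompositionStabilizer D ⊓ isometryGroup F (⇑Q) ≤ Geo.decompositionStabilizer D' := by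
  classical
  have h2 : (2 : F) ≠ 0 := two_ne_zero_of_odd (by rw [h3]; decide)
  have ht := hD.decomp.decomp.two_le
  set i₀ : Fin t := ⟨0, by omega⟩
  let φ : (Fin 3 → F) ≃ₗ[F] D i₀ := LinearEquiv.ofFinrankEq _ _ (by rw [Module.finrank_fin_fun, hD.decomp.decomp.finrank_eq])
  have hs : Geo.IsSymmetricForm fun x y => B (φ x : ι → F) (φ y : ι → F) := by
    refine ⟨⟨fun x y z => by simp only [map_add, Submodule.coe_add, B_add_left],
      fun r x z => by simp only [map_smul, Submodule.coe_smul, B_smul_left],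
      fun z x y => by simp only [map_add, Submodule.coe_add, B_add_right],
      fun r z x => by simp only [map_smul, Submodule.coe_smul, B_smul_right]⟩, fun x y => B_comm Q _ _, ?_⟩
    intro x hx
    have hx0 : (φ x : ι → F) ≠ 0 := fun h => hx (φ.injective ((Subtype.ext h).trans (map_zero φ).symm))
    obtain ⟨⟨a, ha, ha'⟩, b, hb, hb'⟩ := hD.decomp.nondegenerate i₀ _ (φ x).2 hx0
    exact ⟨⟨φ.symm ⟨a, ha⟩, by simpa using ha'⟩, φ.symm ⟨b, hb⟩, by simpa using hb'⟩
  obtain ⟨w, d, hd, hwd, hw⟩ := SpExplicit.exists_equal_frame h3 hs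
  set c : F := d / 2
  have hc : c ≠ 0 := div_ne_zero hd h2
  have hQw : ∀ i, Q (φ (w i) : ι → F) = c := fun i => by
    have h1 : B (φ (w i) : ι → F) (φ (w i) : ι → F) = d := hwd i
    rw [B_self] at h1
    simp only [c, ← h1]
    field_simp
  have hli : LinearIndependent F w := by
    rw [Fintype.linearIndependent_iff]
    intro s hs' i
    have h1 : QuadraticMap.polarBilin Q (φ (w i) : ι → F) (φ (∑ j, s j • w j) : ι → F) = 0 := by
      rw [hs', map_zero, Submodule.coe_zero, map_zero]
    simp only [map_sum, map_smul, Submodule.coe_sum, Submodule.coe_smul] at h1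
    rw [Finset.sum_eq_single i (fun j _ hj => by
      show s j • B (φ (w i) : ι → F) (φ (w j) : ι → F) = 0
      rw [hw i j (Ne.symm hj), smul_zero]) (fun hn => absurd (Finset.mem_univ i) hn)] at h1
    rw [show QuadraticMap.polarBilin Q (φ (w i) : ι → F) (φ (w i) : ι → F) = d from hwd i, smul_eq_mul] at h1
    exact (mul_eq_zero.1 h1).resolve_right hd
  let W : Module.Basis (Fin 3) F (Fin 3 → F) := basisOfLinearIndependentOfCardEqFinrank hli (by simp)
  obtain ⟨e, hmem, hQe, hBe, hspan⟩ := transport_basis hD (fun j => (φ (w j) : ι → F)) (fun j => (φ (w j)).2)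
    (i₀ := i₀) fun x hx => ⟨fun j => W.repr (φ.symm ⟨x, hx⟩) j, by
      have h1 := W.sum_repr (φ.symm ⟨x, hx⟩)
      rw [show (W : Fin 3 → Fin 3 → F) = w from coe_basisOfLinearIndependentOfCardEqFinrank hli _] at h1
      have h4 := congrArg (fun y => (φ y : ι → F)) h1
      simpa [map_sum] using h4⟩
  let pr : Fin (t * 3) ≃ Fin t × Fin 3 := finProdFinEquiv.symm
  let v : Fin (t * 3) → ι → F := fun l => e (pr l).1 (pr l).2
  have horth : ∀ l l', l ≠ l' → B (v l) (v l') = 0 := by
    intro l l' hne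
    by_cases hi : (pr l).1 = (pr l').1
    · simp only [v, hi, hBe]
      refine hw _ _ fun h => hne (pr.injective (Prod.ext hi h))
    · exact block_orth hD (hmem _ _) (hmem _ _) hi
  have hQv : ∀ l, Q (v l) = c := fun l => (hQe _ _).trans (hQw _)
  refine ⟨fun l => F ∙ v l, lines_of_frame h2 (by omega) (card_eq_mul hD) hc hQv horth, ?_⟩
  rintro g ⟨⟨σ, hσ⟩, hg⟩
  -- every vector of value `c` in a member is a multiple of a frame vector
  have himg : ∀ l, ∃ l', ∃ r : F, r ≠ 0 ∧ (g : Matrix ι ι F) *ᵥ v l = r • v l' := by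
    intro l
    obtain ⟨i, j⟩ : Fin t × Fin 3 := pr l
    obtain ⟨α, hα⟩ := hspan (σ (pr l).1) ((g : Matrix ι ι F) *ᵥ v l) (by
      rw [← hσ]; exact ⟨v l, hmem _ _, Matrix.toLin'_apply _ _⟩)
    have h1 := Q_act hg (v l)
    rw [act_apply, ← hα, hQv] at h1
    have hB : ∀ j j', j ≠ j' → B (e (σ (pr l).1) j) (e (σ (pr l).1) j') = 0 := fun j j' hjj => by
      rw [hBe]; exact hw j j' hjj
    simp only [Fin.sum_univ_three, Q_add, Q_smul, B_add_left, B_smul_left, B_smul_right, hQe, hQw,
      hB 0 1 (by decide), hB 0 2 (by decide), hB 1 2 (by decide), mul_zero, add_zero] at h1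
    have h4 : α 0 * α 0 + α 1 * α 1 + α 2 * α 2 = 1 := by
      refine mul_right_cancel₀ hc ?_
      linear_combination h1
    have hsub : ∀ j₀ : Fin 3, (∀ j, j ≠ j₀ → α j = 0) → ∃ l', ∃ r : F, r ≠ 0 ∧
        (g : Matrix ι ι F) *ᵥ v l = r • v l' := by
      intro j₀ hj₀
      have h5 : (g : Matrix ι ι F) *ᵥ v l = α j₀ • e (σ (pr l).1) j₀ := by
        rw [← hα, Finset.sum_eq_single j₀ (fun j _ hj => by rw [hj₀ j hj, zero_smul])
          (fun hn => absurd (Finset.mem_univ j₀) hn)]
      refine ⟨pr.symm (σ (pr l).1, j₀), α j₀, fun h0 => ?_, by simpa [v] using h5⟩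
      rw [h0, zero_smul] at h5
      exact hc (by rw [← hQv l, (Aschbacher.mulVec_eq_zero_iff g).1 h5, map_zero])
    have hval : ∀ a : F, a = 0 ∨ a * a = 1 := fun a => (eq_or_ne a 0).imp_right fun h => SpExplicit.sq_eq_one h3 h
    rcases hval (α 0) with a0 | a0 <;> rcases hval (α 1) with a1 | a1 <;> rcases hval (α 2) with a2 | a2
    · exfalso; rw [a0, a1, a2] at h4; simp at h4
    · exact hsub 2 fun j hj => by fin_cases j <;> first | exact a0 | exact a1 | exact absurd rfl hj
    · exact hsub 1 fun j hj => by fin_cases j <;> first | exact a0 | exact a2 | exact absurd rfl hj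
    · exfalso; rw [a0] at h4; exact one_ne_zero (α := F) (by linear_combination h4 - a1 - a2)
    · exact hsub 0 fun j hj => by fin_cases j <;> first | exact a1 | exact a2 | exact absurd rfl hj
    · exfalso; rw [a1] at h4; exact one_ne_zero (α := F) (by linear_combination h4 - a0 - a2)
    · exfalso; rw [a2] at h4; exact one_ne_zero (α := F) (by linear_combination h4 - a0 - a1)
    · exfalso; exact h2 (by linear_combination h4 - a0 - a1 - a2)
  choose π r hr hπ using himg
  have hinj : Function.Injective π := by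
    intro l l' hll
    by_contra hne
    have h1 : B ((g : Matrix ι ι F) *ᵥ v l) ((g : Matrix ι ι F) *ᵥ v l') = 0 := by
      rw [← act_apply, ← act_apply, B_act hg]; exact horth l l' hne
    rw [hπ, hπ, hll, B_smul_left, B_smul_right, B_self, hQv] at h1
    exact mul_ne_zero (hr l) (mul_ne_zero (hr l') (mul_ne_zero h2 hc)) h1
  refine ⟨Equiv.ofBijective π (Finite.injective_iff_bijective.1 hinj), fun l => ?_⟩
  rw [Submodule.map_span, Set.image_singleton, Matrix.toLin'_apply, hπ,
    Submodule.span_singleton_smul_eq (isUnit_iff_ne_zero.2 (hr l))]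
  rfl

end Cfsg.Agent.Aschbacher.OrthExplicit
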